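import Groth.Agent.CurveExt.Basic
import Groth.Agent.CurveCoh.Integral
import Groth.Agent.VarDim.Curve
import Mathlib.AlgebraicGeometry.SpreadingOut
import Mathlib.AlgebraicGeometry.Morphisms.UniversallyClosed

/-!
# Curves reaching the points in the closure of their images
-/

set_option autoImplicit false
set_option linter.style.haveILetI false
universe u

open CategoryTheory CategoryTheory.Limits AlgebraicGeometry TopologicalSpace IsLocalRing

noncomputable section

namespace Groth.Agent.CurveReach27

variable {k : Type u} [Field k] {C X : Scheme.{u}} [C.Over (Spec (CommRingCat.of k))]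
  [X.Over (Spec (CommRingCat.of k))] [IsIntegral C]

local notation "pC" => (C ↘ Spec (CommRingCat.of k))
local notation "pX" => (X ↘ Spec (CommRingCat.of k))

/-- A point of the closure of the image of the generic point is the image of some point of a curve
with the same generic point. -/
theorem exists_local_reach [IsProper pC] (hv : ∀ x : C, ValuationRing (C.presheaf.stalk x))
    (γ : C ⟶ X) (hγ : γ ≫ pX = pC) (b : X) (hb : γ (genericPoint C) ⤳ b) :
    ∃ (y : C) (l : Spec (C.presheaf.stalk y) ⟶ X), l ≫ pX = C.fromSpecStalk y ≫ pC ∧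
      l (closedPoint _) = b ∧
      Spec.map (C.presheaf.stalkSpecializes (genericPoint_specializes y)) ≫ l =
        C.fromSpecStalk (genericPoint C) ≫ γ := by
  let P := pullback pC pX
  let f : P ⟶ C := pullback.fst pC pX
  let g : P ⟶ X := pullback.snd pC pX
  let s : C ⟶ P := pullback.lift (𝟙 C) γ (by rw [Category.id_comp, hγ])
  let i : Spec C.functionField ⟶ P := C.fromSpecStalk (genericPoint C) ≫ s
  let c : Spec C.functionField := closedPoint C.functionField
  have hc : i c = s (genericPoint C) := by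
    rw [Scheme.Hom.comp_apply]
    exact congrArg _ Scheme.fromSpecStalk_closedPoint
  obtain ⟨x', hx', hgx⟩ : b ∈ g.base '' closure {i c} := by
    refine hb.mem_closed (g.isClosedMap _ isClosed_closure) ⟨i c, subset_closure rfl, ?_⟩
    rw [hc, ← Scheme.Hom.comp_apply, pullback.lift_snd]
  have hsp : i c ⤳ x' := specializes_iff_mem_closure.mpr hx'
  haveI := hv (f x')
  haveI : IsDomain (C.presheaf.stalk (f x')) :=
    Function.Injective.isDomain _ (IsFractionRing.injective (C.presheaf.stalk (f x')) C.functionField)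
  let e : C.presheaf.stalk (f x') ⟶ C.functionField :=
    C.presheaf.stalkSpecializes (genericPoint_specializes (f x'))
  let β : P.presheaf.stalk x' ⟶ C.functionField :=
    P.presheaf.stalkSpecializes hsp ≫ Scheme.stalkClosedPointTo i
  have hβ : Spec.map β ≫ P.fromSpecStalk x' = i := by
    rw [Spec.map_comp, Category.assoc, Scheme.SpecMap_stalkSpecializes_fromSpecStalk]
    exact Scheme.Spec_stalkClosedPointTo_fromSpecStalk i
  have hαβ : f.stalkMap x' ≫ β = e := by
    apply Spec.map_injective
    rw [← cancel_mono (C.fromSpecStalk (f x')), Spec.map_comp, Category.assoc,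
      Scheme.SpecMap_stalkMap_fromSpecStalk, reassoc_of% hβ, Category.assoc, pullback.lift_fst, Category.comp_id,
      Scheme.SpecMap_stalkSpecializes_fromSpecStalk]
  letI : Algebra (C.presheaf.stalk (f x')) C.functionField := inferInstance
  have hb' := bijective_rangeRestrict_comp_of_valuationRing (R := C.presheaf.stalk (f x'))
    (K := C.functionField) (f.stalkMap x').hom β.hom (CommRingCat.hom_ext_iff.mp hαβ)
  let φ : P.presheaf.stalk x' ⟶ C.presheaf.stalk (f x') := CommRingCat.ofHom <|
    (RingEquiv.ofBijective _ hb').symm.toRingHom.comp β.hom.rangeRestrict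
  have hαφ : f.stalkMap x' ≫ φ = 𝟙 _ := by
    ext a; exact (RingEquiv.ofBijective _ hb').symm_apply_apply a
  have hφβ : φ ≫ e = β :=
    hαβ ▸ CommRingCat.hom_ext (RingHom.ext fun a ↦ congr_arg Subtype.val
      ((RingEquiv.ofBijective _ hb').apply_symm_apply (β.hom.rangeRestrict a)))
  haveI : IsLocalHom φ.hom := ⟨fun a ha => by
    let a' := (f.stalkMap x').hom (φ.hom a)
    have ha' : IsUnit a' := (show IsUnit (φ.hom a) from ha).map (f.stalkMap x').hom
    have h0 : φ.hom (a' - a) = 0 := by
      rw [map_sub, sub_eq_zero]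
      exact congrArg (fun m => m.hom (φ.hom a)) hαφ
    have hn : ¬ IsUnit (a' - a) := fun h => not_isUnit_zero (h0 ▸ h.map φ.hom)
    have hsum : a' - a + a = a' := sub_add_cancel a' a
    exact (IsLocalRing.isUnit_or_isUnit_of_isUnit_add (hsum.symm ▸ ha')).resolve_left hn⟩
  refine ⟨f x', Spec.map φ ≫ P.fromSpecStalk x' ≫ g, ?_, ?_, ?_⟩
  · rw [Category.assoc, Category.assoc, ← pullback.condition, ← Scheme.SpecMap_stalkMap_fromSpecStalk_assoc,
      ← Spec.map_comp_assoc, hαφ, Spec.map_id, Category.id_comp]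
  · rw [Scheme.Hom.comp_apply, Scheme.Hom.comp_apply, Spec_closedPoint, Scheme.fromSpecStalk_closedPoint]
    exact hgx
  · rw [← Spec.map_comp_assoc, hφβ, reassoc_of% hβ]
    simp only [g, i, s, Category.assoc]
    exact congrArg _ (pullback.lift_snd _ _ _)

/-- Every point of the closure of the image of a curve lies on the image of a curve through the
same generic point. -/
theorem exists_reach [IsProper pC] [LocallyOfFiniteType pX] (hdim : topologicalKrullDim C = 1)
    (hv : ∀ x : C, ValuationRing (C.presheaf.stalk x))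
    (γ : C ⟶ X) (hγ : γ ≫ pX = pC) (b : X) (hb : γ (genericPoint C) ⤳ b) :
    ∃ γ' : C ⟶ X, γ' ≫ pX = pC ∧ γ' (genericPoint C) = γ (genericPoint C) ∧ b ∈ Set.range γ' := by
  obtain ⟨y, l, hlk, hlb, hlη⟩ := exists_local_reach hv γ hγ b hb
  obtain ⟨U, hyU, g, hg, hgk⟩ := spread_out_of_isGermInjective' pC pX (x := y) l hlk
  have hηU : genericPoint C ∈ U := (genericPoint_specializes y).mem_open U.2 hyU
  have hgη : U.fromSpecStalkOfMem (genericPoint C) hηU ≫ g = C.fromSpecStalk (genericPoint C) ≫ γ := by
    have e : U.fromSpecStalkOfMem (genericPoint C) hηU =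
        Spec.map (C.presheaf.stalkSpecializes (genericPoint_specializes y)) ≫ U.fromSpecStalkOfMem y hyU := by
      rw [← cancel_mono U.ι, Category.assoc]
      simp [Scheme.SpecMap_stalkSpecializes_fromSpecStalk]
    rw [e, Category.assoc, ← hg, hlη]
  have hgy : g ⟨y, hyU⟩ = b := by
    rw [← hlb, hg, Scheme.Hom.comp_apply]
    congr 1
    apply Subtype.ext
    change y = U.ι (U.fromSpecStalkOfMem y hyU (closedPoint _))
    rw [← Scheme.Hom.comp_apply, Scheme.Opens.fromSpecStalkOfMem_ι, Scheme.fromSpecStalk_closedPoint]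
  have hgη' : g ⟨genericPoint C, hηU⟩ = γ (genericPoint C) := by
    have h := congrArg (fun m => m (closedPoint _)) hgη
    simp only [Scheme.Hom.comp_apply, Scheme.fromSpecStalk_closedPoint] at h
    rw [← h]
    congr 1
    apply Subtype.ext
    change genericPoint C = U.ι (U.fromSpecStalkOfMem _ hηU (closedPoint _))
    rw [← Scheme.Hom.comp_apply, Scheme.Opens.fromSpecStalkOfMem_ι, Scheme.fromSpecStalk_closedPoint]
  obtain ⟨W, hW, hηW, -⟩ := exists_isAffineOpen_mem_and_subset (X := X) (Opens.mem_top (γ (genericPoint C)))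
  haveI : IsAffine (W : Scheme.{u}) := hW
  -- the overlap on which both maps land in `W`
  let O : C.Opens := U.ι ''ᵁ (g ⁻¹ᵁ W) ⊓ γ ⁻¹ᵁ W
  have hηO : genericPoint C ∈ O := ⟨⟨⟨genericPoint C, hηU⟩, by simpa [hgη'] using hηW, rfl⟩, hηW⟩
  haveI : CompactSpace C := QuasiCompact.compactSpace_of_compactSpace pC
  have hfin : ((O : Set C)ᶜ).Finite := VarDim.finite_of_isClosed k hdim O.2.isClosed_compl (fun h => h hηO)
  let U' : C.Opens := ⟨(O : Set C) ∪ {y}, by
    rw [← isClosed_compl_iff, Set.compl_union]
    by_cases hy : y = genericPoint C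
    · have : (O : Set C)ᶜ ∩ {y}ᶜ = (O : Set C)ᶜ := by
        refine Set.inter_eq_left.2 fun z hz hzy => hz ?_
        rw [Set.mem_singleton_iff.1 hzy, hy]
        exact hηO
      rw [this]
      exact O.2.isClosed_compl
    · rw [← Set.biUnion_of_singleton ((O : Set C)ᶜ ∩ {y}ᶜ)]
      exact (hfin.subset Set.inter_subset_left).isClosed_biUnion fun z hz =>
        VarDim.isClosed_singleton_of_ne_genericPoint k hdim fun h => hz.1 (h ▸ hηO)⟩
  have hU'U : U' ≤ U := fun z hz => by
    rcases hz with h | h
    · obtain ⟨⟨w, -, rfl⟩, -⟩ := h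
      exact w.2
    · exact (Set.mem_singleton_iff.1 h) ▸ hyU
  by_cases hy : y = genericPoint C
  · refine ⟨γ, hγ, rfl, genericPoint C, ?_⟩
    subst hy
    rw [← hgη']
    exact hgy
  let V : C.Opens := ⟨{y}ᶜ, (VarDim.isClosed_singleton_of_ne_genericPoint k hdim hy).isOpen_compl⟩
  let Us : Bool → C.Opens := fun t => if t then U' else V
  let gs : ∀ t, (Us t : Scheme.{u}) ⟶ X := fun t => match t with
    | true => C.homOfLE hU'U ≫ g
    | false => V.ι ≫ γ
  have hsup : ⨆ t, Us t = ⊤ := top_le_iff.mp fun z _ => Opens.mem_iSup.mpr (by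
    by_cases hz : z = y
    · exact ⟨true, Or.inr hz⟩
    · exact ⟨false, hz⟩)
  let 𝒰 : C.OpenCover := C.openCoverOfIsOpenCover Us hsup
  have hgsk : ∀ t, gs t ≫ pX = (Us t).ι ≫ pC := fun t => by
    cases t
    · change (V.ι ≫ γ) ≫ pX = V.ι ≫ pC
      rw [Category.assoc, hγ]
    · change (C.homOfLE hU'U ≫ g) ≫ pX = U'.ι ≫ pC
      rw [Category.assoc, hgk, Scheme.homOfLE_ι_assoc]
  have key : pullback.fst U'.ι V.ι ≫ (C.homOfLE hU'U ≫ g) = pullback.snd U'.ι V.ι ≫ V.ι ≫ γ := by
    let P := pullback U'.ι V.ι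
    let pP : P ⟶ C := pullback.fst U'.ι V.ι ≫ U'.ι
    let a : P ⟶ X := pullback.fst U'.ι V.ι ≫ C.homOfLE hU'U ≫ g
    let b' : P ⟶ X := pullback.snd U'.ι V.ι ≫ V.ι ≫ γ
    have hmem : ∀ z : P, pP z ∈ O := fun z => by
      rcases (pullback.fst U'.ι V.ι z).2 with h | h
      · exact h
      · exfalso
        have h2 : V.ι (pullback.snd U'.ι V.ι z) = y := by
          rw [← Scheme.Hom.comp_apply, ← pullback.condition, Scheme.Hom.comp_apply]
          exact h
        exact (pullback.snd U'.ι V.ι z).2 h2
    have ha : Set.range a ⊆ Set.range W.ι := by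
      rintro _ ⟨z, rfl⟩
      rw [Scheme.Opens.range_ι]
      obtain ⟨w, hw, hwz⟩ := (hmem z).1
      change g (C.homOfLE hU'U (pullback.fst U'.ι V.ι z)) ∈ W
      rwa [show C.homOfLE hU'U (pullback.fst U'.ι V.ι z) = w from U.ι.isOpenEmbedding.injective (by
        rw [← Scheme.Hom.comp_apply, Scheme.homOfLE_ι]
        exact hwz.symm)]
    have hb' : Set.range b' ⊆ Set.range W.ι := by
      rintro _ ⟨z, rfl⟩
      rw [Scheme.Opens.range_ι]
      change γ (V.ι (pullback.snd U'.ι V.ι z)) ∈ W
      rw [← Scheme.Hom.comp_apply (pullback.snd U'.ι V.ι), ← pullback.condition]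
      exact (hmem z).2
    have hab : IsOpenImmersion.lift W.ι a ha = IsOpenImmersion.lift W.ι b' hb' := by
      let γ₀ : Spec C.functionField ⟶ P := pullback.lift
        (U'.fromSpecStalkOfMem _ (show genericPoint C ∈ U' from Or.inl hηO))
        (V.fromSpecStalkOfMem _ (show genericPoint C ∈ V from fun h => hy (Set.mem_singleton_iff.1 h).symm)) (by simp)
      let c : Spec C.functionField := closedPoint C.functionField
      have hγc : pP (γ₀ c) = genericPoint C := by
        rw [← Scheme.Hom.comp_apply, pullback.lift_fst_assoc, Scheme.Opens.fromSpecStalkOfMem_ι]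
        exact Scheme.fromSpecStalk_closedPoint
      have : Nonempty P := ⟨γ₀ c⟩
      have : IsIntegral P := isIntegral_of_isOpenImmersion pP
      have : IsDominant γ₀ := ⟨fun w => by
        have h1 : pP (γ₀ c) ⤳ pP w := hγc ▸ genericPoint_specializes _
        exact closure_mono (show ({γ₀ c} : Set P) ⊆ Set.range γ₀ from Set.singleton_subset_iff.mpr ⟨c, rfl⟩)
          (specializes_iff_mem_closure.mp (pP.isOpenEmbedding.isInducing.specializes_iff.mp h1))⟩
      refine ext_of_isDominant_of_isSeparated (W.ι ≫ pX) ?_ γ₀ ?_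
      · simp only [IsOpenImmersion.lift_fac_assoc, a, b', Category.assoc, hgk, hγ]
        rw [Scheme.homOfLE_ι_assoc, pullback.condition_assoc]
      · rw [← cancel_mono W.ι, Category.assoc, Category.assoc, IsOpenImmersion.lift_fac, IsOpenImmersion.lift_fac]
        simp only [a, b', γ₀, pullback.lift_fst_assoc, pullback.lift_snd_assoc]
        rw [Scheme.Opens.fromSpecStalkOfMem_ι_assoc, ← hgη, ← Category.assoc]
        congr 1
        rw [← cancel_mono U.ι, Category.assoc, Scheme.homOfLE_ι]
        simp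
    change a = b'
    rw [← IsOpenImmersion.lift_fac W.ι a ha, hab, IsOpenImmersion.lift_fac]
  have hagree : ∀ s t, pullback.fst (Us s).ι (Us t).ι ≫ gs s = pullback.snd (Us s).ι (Us t).ι ≫ gs t := by
    intro s t
    cases s <;> cases t
    · rw [show pullback.fst (Us false).ι (Us false).ι = pullback.snd (Us false).ι (Us false).ι from
        (cancel_mono (Us false).ι).1 pullback.condition]
    · rw [← cancel_epi (pullbackSymmetry (Us true).ι (Us false).ι).hom,
        pullbackSymmetry_hom_comp_fst_assoc, pullbackSymmetry_hom_comp_snd_assoc]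
      exact key.symm
    · exact key
    · rw [show pullback.fst (Us true).ι (Us true).ι = pullback.snd (Us true).ι (Us true).ι from
        (cancel_mono (Us true).ι).1 pullback.condition]
  let γ' : C ⟶ X := 𝒰.glueMorphisms gs hagree
  have hι : ∀ t, (Us t).ι ≫ γ' = gs t := 𝒰.ι_glueMorphisms gs hagree
  refine ⟨γ', 𝒰.hom_ext _ _ fun t => ?_, ?_, y, ?_⟩
  · change (Us t).ι ≫ γ' ≫ pX = (Us t).ι ≫ pC
    rw [← Category.assoc, hι, hgsk]
  · have h := congrArg (fun m => m (⟨genericPoint C, fun h => hy (Set.mem_singleton_iff.1 h).symm⟩ : V)) (hι false)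
    simp only [gs, Scheme.Hom.comp_apply] at h
    exact h
  · have h := congrArg (fun m => m (⟨y, Or.inr rfl⟩ : U')) (hι true)
    simp only [gs, Scheme.Hom.comp_apply] at h
    refine h.trans ?_
    rw [← hgy]
    congr 1
    apply U.ι.isOpenEmbedding.injective
    rw [← Scheme.Hom.comp_apply, Scheme.homOfLE_ι]
    rfl

end Groth.Agent.CurveReach27
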